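import Mathlib.AlgebraicGeometry.Fiber
import Mathlib.AlgebraicGeometry.Noetherian
import Mathlib.RingTheory.Localization.Submodule

/-!
# Fibres of morphisms out of locally Noetherian schemes
-/

set_option autoImplicit false
set_option backward.isDefEq.respectTransparency false
set_option backward.isDefEq.respectTransparency.types false
set_option linter.style.haveILetI false

universe u

open CategoryTheory CategoryTheory.Limits AlgebraicGeometry TopologicalSpace
open scoped TensorProduct

namespace Groth.Agent.AssTensorX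

/-- A fibre of a morphism out of a locally Noetherian scheme is locally Noetherian. -/
theorem isLocallyNoetherian_fiber {X Y : Scheme.{u}} [IsLocallyNoetherian X] (f : X ⟶ Y) (y : Y) :
    IsLocallyNoetherian (f.fiber y) := by
  have hloc : ∀ w : f.fiber y, ∃ (P : Scheme.{u}) (i : P ⟶ f.fiber y), IsOpenImmersion i ∧
      IsLocallyNoetherian P ∧ w ∈ Set.range i := fun w => by
    have hy : f (f.fiberι y w) = y := by
      have : f.fiberι y w ∈ Set.range (f.fiberι y) := ⟨w, rfl⟩
      rwa [Scheme.Hom.range_fiberι] at this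
    obtain ⟨_, ⟨V, hV, rfl⟩, hyV, -⟩ :=
      Y.isBasis_affineOpens.exists_subset_of_mem_open (Set.mem_univ y) isOpen_univ
    obtain ⟨_, ⟨U, hU, rfl⟩, hwU, hUV⟩ := X.isBasis_affineOpens.exists_subset_of_mem_open
      (show f.fiberι y w ∈ f ⁻¹ᵁ V by show f (f.fiberι y w) ∈ V; rw [hy]; exact hyV) (f ⁻¹ᵁ V).isOpen
    replace hU : IsAffineOpen U := hU
    replace hV : IsAffineOpen V := hV
    have hle : U ≤ f ⁻¹ᵁ V := hUV
    letI : Algebra Γ(Y, V) Γ(X, U) := (f.appLE V U hle).hom.toAlgebra
    haveI : IsNoetherianRing Γ(X, U) := IsLocallyNoetherian.component_noetherian ⟨U, hU⟩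
    let k := hV.fromSpec
    obtain ⟨p, hp⟩ : y ∈ Set.range k := by rw [hV.range_fromSpec]; exact hyV
    subst hp
    let φ := Spec.map (CommRingCat.ofHom (algebraMap Γ(Y, V) Γ(X, U)))
    let σ := Spec.map (CommRingCat.ofHom (algebraMap Γ(Y, V) p.asIdeal.ResidueField))
    haveI : IsNoetherianRing (Γ(X, U) ⊗[Γ(Y, V)] p.asIdeal.ResidueField) :=
      Algebra.EssFiniteType.isNoetherianRing Γ(X, U) _
    haveI : IsLocallyNoetherian (pullback φ σ) :=
      isLocallyNoetherian_of_isOpenImmersion
        (pullbackSpecIso Γ(Y, V) Γ(X, U) p.asIdeal.ResidueField).hom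
    haveI : IsIso (k.residueFieldMap p) := inferInstance
    let τ : Spec (CommRingCat.of p.asIdeal.ResidueField) ⟶ Spec (Y.residueField (k p)) :=
      inv (Spec.map (Scheme.Spec.residueFieldIso (.of Γ(Y, V)) p).inv) ≫ Spec.map (k.residueFieldMap p)
    have hτ : τ ≫ Y.fromSpecResidueField (k p) = σ ≫ k := by
      simp only [τ, σ, Category.assoc, Scheme.Hom.SpecMap_residueFieldMap_fromSpecResidueField]
      rw [IsIso.inv_comp_eq, ← Category.assoc, Scheme.Spec.map_residueFieldIso_inv_eq_fromSpecResidueField]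
      rfl
    have hφ : φ ≫ k = hU.fromSpec ≫ f := by
      simp only [φ, k, RingHom.algebraMap_toAlgebra]
      exact IsAffineOpen.SpecMap_appLE_fromSpec f hV hU hle
    let i : pullback φ σ ⟶ f.fiber (k p) :=
      pullback.map φ σ f (Y.fromSpecResidueField (k p)) hU.fromSpec τ k hφ hτ.symm
    let i' : pullback (φ ≫ k) (σ ≫ k) ⟶ f.fiber (k p) :=
      pullback.map (φ ≫ k) (σ ≫ k) f (Y.fromSpecResidueField (k p)) hU.fromSpec τ (𝟙 Y)
        (by rw [Category.comp_id]; exact hφ) (by rw [Category.comp_id]; exact hτ.symm)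
    haveI : IsOpenImmersion i' :=
      MorphismProperty.pullbackMap (P := @IsOpenImmersion) (i₁ := hU.fromSpec) (i₂ := τ) inferInstance
        inferInstance hφ hτ.symm
    let ε := limit.isoLimitCone ⟨_, pullbackIsPullbackOfCompMono φ σ k⟩
    haveI : IsOpenImmersion i := by
      rw [show i = ε.inv ≫ i' by
        refine pullback.hom_ext ?_ ?_ <;> simp [i, i', ε, pullback.map, limit.isoLimitCone_inv_π_assoc]]
      infer_instance
    refine ⟨_, i, inferInstance, inferInstance, ?_⟩
    rw [show Set.range i = _ from Scheme.Pullback.range_map φ σ f (Y.fromSpecResidueField (k p)) hU.fromSpec τ k hφ hτ.symm]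
    exact ⟨hU.range_fromSpec.ge hwU, τ.homeomorph.surjective _⟩
  choose P i hi hP hw using hloc
  let 𝒰 : (f.fiber y).OpenCover :=
    Scheme.Cover.mkOfCovers _ P i (fun w => ⟨w, hw w⟩) hi
  exact (isLocallyNoetherian_iff_openCover 𝒰).2 fun w => hP w

end Groth.Agent.AssTensorX
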