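import Groth.Agent.AssTensorX.Scheme
import Groth.Agent.AssTensorX.FibreNoeth
import Groth.Agent.SuppTensor.GoingDown
import Mathlib.RingTheory.Length

/-!
# Associated points and lengths of `f^* E ⊗ F` for `F` flat over the base
-/

set_option autoImplicit false
set_option backward.isDefEq.respectTransparency false
set_option backward.isDefEq.respectTransparency.types false
set_option linter.style.haveILetI false

universe u

open CategoryTheory CategoryTheory.Limits AlgebraicGeometry IsLocalRing
open scoped TensorProduct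

namespace Groth.Agent.AssTensorX

theorem length_quot_eq {S S₁ : Type u} [CommRing S] [CommRing S₁] [Algebra S S₁]
    (hsurj : Function.Surjective (algebraMap S S₁)) (J : Ideal S) (hJ : RingHom.ker (algebraMap S S₁) = J)
    (N : Type u) [AddCommGroup N] [Module S N] :
    Module.length S₁ (S₁ ⊗[S] N) = Module.length S (N ⧸ J • (⊤ : Submodule S N)) := by
  subst hJ
  rw [← Module.length_eq_of_surjective (R := S₁) (S := S) hsurj]
  exact ((TensorProduct.quotTensorEquivQuotSMul N _).symm ≪≫ₗ TensorProduct.congr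
    (Ideal.quotientKerAlgEquivOfSurjective (f := Algebra.ofId S S₁) hsurj).toLinearEquiv
      (LinearEquiv.refl S N)).length_eq.symm

open TensorProduct in
theorem length_tensor_eq_one_iff {R S : Type u} [CommRing R] [IsLocalRing R] [IsNoetherianRing R] [CommRing S]
    [IsLocalRing S] [IsNoetherianRing S] [Algebra R S] [IsLocalHom (algebraMap R S)]
    (N : Type u) [AddCommGroup N] [Module S N] [Module R N] [IsScalarTower R S N]
    [Module.Finite S N] [Nontrivial N] [Module.Flat R N] (M : Type u) [AddCommGroup M] [Module R M]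
    (hM : Soc R M) :
    Module.length S (N ⊗[R] M) = 1 ↔ Module.length R M = 1 ∧
      Module.length S (N ⧸ (maximalIdeal R).map (algebraMap R S) • (⊤ : Submodule S N)) = 1 := by
  set mN := (maximalIdeal R).map (algebraMap R S) • (⊤ : Submodule S N) with hmN
  obtain ⟨e₀, he0, he⟩ := hM
  let ι : (R ⧸ maximalIdeal R) →ₗ[R] M := Submodule.liftQ _ (LinearMap.toSpanSingleton R M e₀) fun a ha => he a ha
  have hι : Function.Injective ι := by
    rw [injective_iff_map_eq_zero]
    intro a ha
    obtain ⟨a, rfl⟩ := Submodule.Quotient.mk_surjective _ a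
    rw [Submodule.Quotient.mk_eq_zero]
    intro hu
    exact he0 (hu.smul_eq_zero.1 (show a • e₀ = 0 from ha))
  let C := M ⧸ LinearMap.range ι
  let π : M →ₗ[R] C := Submodule.mkQ _
  have hex : Function.Exact ι π := LinearMap.exact_map_mkQ_range ι
  have h1 : Module.length R M = 1 + Module.length R C := by
    rw [Module.length_eq_add_of_exact ι π hι (Submodule.mkQ_surjective _) hex]
    refine congrArg (· + _) ?_
    haveI : IsSimpleModule R (R ⧸ maximalIdeal R) :=
      isSimpleModule_iff_isCoatom.2 (Ideal.isMaximal_def.1 (maximalIdeal.isMaximal R))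
    exact Module.length_eq_one R _
  obtain ⟨θ⟩ := CAlgOdd.AssTensor.exists_equiv (S := S) N (maximalIdeal R)
  have h2 : Module.length S (N ⊗[R] M) =
      Module.length S (N ⧸ mN) + Module.length S (N ⊗[R] C) := by
    rw [hmN, θ.length_eq]
    exact Module.length_eq_add_of_exact (AlgebraTensorModule.lTensor S N ι) (AlgebraTensorModule.lTensor S N π)
      (Module.Flat.lTensor_preserves_injective_linearMap (M := N) ι hι)
      (LinearMap.lTensor_surjective N (Submodule.mkQ_surjective _))
      (lTensor_exact N hex (Submodule.mkQ_surjective _))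
  haveI : Nontrivial (N ⧸ mN) := FlatLoc6.nontrivial_quot_mN (A := R) (B := S) N
  have h3 : 1 ≤ Module.length S (N ⧸ mN) := Order.one_le_iff_pos.2 Module.length_pos
  have htop : maximalIdeal R • (⊤ : Submodule R N) ≠ ⊤ := by
    intro h
    refine FlatLoc6.mB_smul_ne_top (A := R) (B := S) N (Submodule.eq_top_iff'.2 fun n => ?_)
    have hn : n ∈ maximalIdeal R • (⊤ : Submodule R N) := (Submodule.eq_top_iff'.1 h) n
    induction hn using Submodule.smul_induction_on' with
    | smul a ha n _ =>
      rw [← algebraMap_smul S a n]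
      exact Submodule.smul_mem_smul (Ideal.mem_map_of_mem _ ha) Submodule.mem_top
    | add u _ v _ hu hv => exact add_mem hu hv
  haveI : Module.FaithfullyFlat R N := ⟨fun {m} hm => by rw [IsLocalRing.eq_maximalIdeal hm]; exact htop⟩
  have h4 : Subsingleton (N ⊗[R] C) ↔ Subsingleton C := by
    refine ⟨fun h => ?_, fun h => inferInstance⟩
    rw [← not_nontrivial_iff_subsingleton]
    intro hC
    exact not_nontrivial (N ⊗[R] C) (Module.FaithfullyFlat.lTensor_nontrivial R N C)
  constructor
  · intro h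
    rw [h2] at h
    have hb : Module.length S (N ⊗[R] C) = 0 := by
      have := (add_le_add h3 (le_refl (Module.length S (N ⊗[R] C)))).trans h.le
      exact nonpos_iff_eq_zero.1 ((ENat.add_le_add_iff_left (by simp : (1 : ℕ∞) ≠ ⊤)).1
        (this.trans_eq (add_zero 1).symm))
    rw [hb, add_zero] at h
    refine ⟨?_, h⟩
    haveI := h4.1 (Module.length_eq_zero_iff.1 hb)
    rw [h1, Module.length_eq_zero, add_zero]
  · rintro ⟨hM1, hN1⟩
    rw [h1] at hM1
    have hc : Module.length R C = 0 :=
      nonpos_iff_eq_zero.1 ((ENat.add_le_add_iff_left (by simp : (1 : ℕ∞) ≠ ⊤)).1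
        (hM1.le.trans_eq (add_zero 1).symm))
    haveI := h4.2 (Module.length_eq_zero_iff.1 hc)
    rw [h2, hN1, Module.length_eq_zero, add_zero]

variable {X Y : Scheme.{u}} [IsLocallyNoetherian X] [IsLocallyNoetherian Y]
variable (f : X ⟶ Y) (E : Y.Modules) (F : X.Modules)

theorem mem_ass_pullback_tensor_iff (hE : Coh.IsQCoh E) (hF : Coh.IsQCoh F) (hfl : FlatMod.IsFlatOver f F)
    (y : Y) (t : f.fiber y) :
    f.fiberι y t ∈ AssSch.Ass (CohB1.tensorMod ((Scheme.Modules.pullback f).obj E) F) ↔
      y ∈ AssSch.Ass E ∧ t ∈ AssSch.Ass ((Scheme.Modules.pullback (f.fiberι y)).obj F) := by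
  let x := f.fiberι y t
  haveI : IsNoetherianRing ((f.fiber y).presheaf.stalk t) := isNoetherianRing_stalk (f.fiberι y) t
  letI : Algebra (Y.presheaf.stalk (f x)) (X.presheaf.stalk x) := (f.stalkMap x).hom.toAlgebra
  haveI : IsLocalHom (algebraMap (Y.presheaf.stalk (f x)) (X.presheaf.stalk x)) :=
    inferInstanceAs (IsLocalHom (f.stalkMap x).hom)
  letI : Module (Y.presheaf.stalk (f x)) (F.presheaf.stalk x) := Module.compHom _ (f.stalkMap x).hom
  haveI : IsScalarTower (Y.presheaf.stalk (f x)) (X.presheaf.stalk x) (F.presheaf.stalk x) :=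
    IsScalarTower.of_algebraMap_smul fun _ _ => rfl
  haveI : Module.Flat (Y.presheaf.stalk (f x)) (F.presheaf.stalk x) := hfl x
  letI : Algebra (X.presheaf.stalk x) ((f.fiber y).presheaf.stalk t) := ((f.fiberι y).stalkMap t).hom.toAlgebra
  obtain ⟨e⟩ := S4678.exists_tensor_stalkEquiv f F E hE x
  obtain ⟨c⟩ := exists_stalk_comm ((Scheme.Modules.pullback f).obj E) F x
  obtain ⟨e₁⟩ := QCoh.nonempty_pullStalkEquiv (f.fiberι y) hF t
  rw [mem_ass_iff_soc, mem_ass_iff_soc ((Scheme.Modules.pullback (f.fiberι y)).obj F) t, soc_equiv (c.trans e),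
    soc_tensor_iff, ← mem_ass_iff_soc E (f x), soc_equiv e₁,
    soc_quot_iff (S₁ := (f.fiber y).presheaf.stalk t) ((f.fiberι y).stalkMap_surjective t) _
      (FlatDvr.ker_stalkMap_fiberι f t) (F.presheaf.stalk x)]
  exact and_congr (by rw [show f x = y from FlatDvr.fiberι_apply_eq f t]) Iff.rfl

theorem length_pullback_tensor_iff (hE : Coh.IsQCoh E) (hF : Coh.IsCoh F) (hfl : FlatMod.IsFlatOver f F)
    (y : Y) (t : f.fiber y) (hy : y ∈ AssSch.Ass E) (ht : f.fiberι y t ∈ CohB1.support F) :
    Module.length (X.presheaf.stalk (f.fiberι y t))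
        ((CohB1.tensorMod ((Scheme.Modules.pullback f).obj E) F).presheaf.stalk (f.fiberι y t)) = 1 ↔
      Module.length (Y.presheaf.stalk y) (E.presheaf.stalk y) = 1 ∧
        Module.length ((f.fiber y).presheaf.stalk t)
          (((Scheme.Modules.pullback (f.fiberι y)).obj F).presheaf.stalk t) = 1 := by
  let x := f.fiberι y t
  letI : Algebra (Y.presheaf.stalk (f x)) (X.presheaf.stalk x) := (f.stalkMap x).hom.toAlgebra
  haveI : IsLocalHom (algebraMap (Y.presheaf.stalk (f x)) (X.presheaf.stalk x)) :=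
    inferInstanceAs (IsLocalHom (f.stalkMap x).hom)
  letI : Module (Y.presheaf.stalk (f x)) (F.presheaf.stalk x) := Module.compHom _ (f.stalkMap x).hom
  haveI : IsScalarTower (Y.presheaf.stalk (f x)) (X.presheaf.stalk x) (F.presheaf.stalk x) :=
    IsScalarTower.of_algebraMap_smul fun _ _ => rfl
  haveI : Module.Flat (Y.presheaf.stalk (f x)) (F.presheaf.stalk x) := hfl x
  haveI := QCoh.finite_stalk_of_isFT hF.1 hF.2 x
  haveI : Nontrivial (F.presheaf.stalk x) := not_subsingleton_iff_nontrivial.1 ht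
  letI : Algebra (X.presheaf.stalk x) ((f.fiber y).presheaf.stalk t) := ((f.fiberι y).stalkMap t).hom.toAlgebra
  obtain ⟨e⟩ := S4678.exists_tensor_stalkEquiv f F E hE x
  obtain ⟨c⟩ := exists_stalk_comm ((Scheme.Modules.pullback f).obj E) F x
  obtain ⟨e₁⟩ := QCoh.nonempty_pullStalkEquiv (f.fiberι y) hF.1 t
  have hsoc : Soc (Y.presheaf.stalk (f x)) (E.presheaf.stalk (f x)) := by
    rw [← mem_ass_iff_soc, show f x = y from FlatDvr.fiberι_apply_eq f t]
    exact hy
  rw [(c.trans e).length_eq, e₁.length_eq, length_tensor_eq_one_iff _ _ hsoc,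
    length_quot_eq (S₁ := (f.fiber y).presheaf.stalk t) ((f.fiberι y).stalkMap_surjective t) _
      (FlatDvr.ker_stalkMap_fiberι f t) (F.presheaf.stalk x)]
  exact and_congr (by rw [show f x = y from FlatDvr.fiberι_apply_eq f t]) Iff.rfl

theorem noEmbedded_iff (hE : Coh.IsCoh E) (hF : Coh.IsCoh F) (hfl : FlatMod.IsFlatOver f F) :
    AssSch.NoEmbedded (CohB1.tensorMod ((Scheme.Modules.pullback f).obj E) F) ↔
      ∀ y ∈ AssSch.Ass E ∩ f.base '' CohB1.support F,
        (∀ y' ∈ AssSch.Ass E, y' ⤳ y → y' = y) ∧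
          AssSch.NoEmbedded ((Scheme.Modules.pullback (f.fiberι y)).obj F) := by
  have hsupp : ∀ x ∈ AssSch.Ass (CohB1.tensorMod ((Scheme.Modules.pullback f).obj E) F), x ∈ CohB1.support F := by
    intro x hx
    have h := AssLib.mem_support_of_mem_ass hx
    rw [SuppTensor.support_pullback_tensor f F hF E hE] at h
    exact h.2
  have key := mem_ass_pullback_tensor_iff f E F hE.1 hF.1 hfl
  have hlift : ∀ (y : Y) (x : X), f x = y → ∃ t, f.fiberι y t = x := fun y x h => by
    have : x ∈ Set.range (f.fiberι y) := by rw [Scheme.Hom.range_fiberι]; exact h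
    exact this
  constructor
  · intro h y ⟨hy, x, hxF, hfx⟩
    refine ⟨fun y' hy' hyy => ?_, fun t ht t' ht' htt => (f.fiberι y).isEmbedding.injective
      (h _ ((key y t).2 ⟨hy, ht⟩) _ ((key y t').2 ⟨hy, ht'⟩) (htt.map (f.fiberι y).continuous))⟩
    haveI := isLocallyNoetherian_fiber f y
    haveI := isLocallyNoetherian_fiber f y'
    obtain ⟨t₀, rfl⟩ := hlift y x hfx
    obtain ⟨t, ht, -⟩ := AssLib.exists_ass_specializes (QCoh.isQCoh_pullback (f.fiberι y) hF.1) (x := t₀)
      (by rw [QCoh.support_pullback _ hF.1 hF.2]; exact hxF)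
    have htN := (key y t).2 ⟨hy, ht⟩
    obtain ⟨z, hzF, hzx, hfz⟩ := SuppTensor.exists_specializes_of_isFlatOver f F hF hfl (hsupp _ htN)
      (w := y') (by rw [show f (f.fiberι y t) = y from FlatDvr.fiberι_apply_eq f t]; exact hyy)
    obtain ⟨s₀, rfl⟩ := hlift y' z hfz
    obtain ⟨s, hs, hss⟩ := AssLib.exists_ass_specializes (QCoh.isQCoh_pullback (f.fiberι y') hF.1) (x := s₀)
      (by rw [QCoh.support_pullback _ hF.1 hF.2]; exact hzF)
    have heq := h _ htN _ ((key y' s).2 ⟨hy', hs⟩) ((hss.map (f.fiberι y').continuous).trans hzx)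
    exact (FlatDvr.fiberι_apply_eq f s).symm.trans ((congrArg f heq.symm).trans (FlatDvr.fiberι_apply_eq f t))
  · intro h x hx x' hx' hxx
    obtain ⟨t, ht⟩ := hlift (f x) x rfl
    obtain ⟨t', ht'⟩ := hlift (f x') x' rfl
    have h1 := (key (f x) t).1 (ht.symm ▸ hx)
    have h2 := (key (f x') t').1 (ht'.symm ▸ hx')
    obtain ⟨hmax, hne⟩ := h (f x) ⟨h1.1, x, hsupp x hx, rfl⟩
    obtain ⟨t'', ht''⟩ := hlift (f x) x' (hmax _ h2.1 (hxx.map f.continuous))
    have h3 := (key (f x) t'').1 (ht''.symm ▸ hx')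
    have := hne t h1.2 t'' h3.2 ((f.fiberι (f x)).isEmbedding.isInducing.specializes_iff.1 (by rw [ht, ht'']; exact hxx))
    rw [← ht, ← ht'', this]

end Groth.Agent.AssTensorX
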