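import Groth.Agent.AssTensorX.Scheme

/-!
# Associated points of a tensor product in terms of the schemes `Spec κ(x) ×_S Spec κ(y)`
-/

set_option autoImplicit false
set_option backward.isDefEq.respectTransparency false
set_option backward.isDefEq.respectTransparency.types false
set_option linter.style.haveILetI false

universe u

open CategoryTheory CategoryTheory.Limits AlgebraicGeometry IsLocalRing

namespace Groth.Agent.AssTensorX

variable {X Y S : Scheme.{u}} (f : X ⟶ S) (g : Y ⟶ S)

/-- The scheme `Spec κ(x) ×_S Spec κ(y)`. -/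
noncomputable abbrev T (x : X) (y : Y) : Scheme.{u} :=
  pullback (X.fromSpecResidueField x ≫ f) (Y.fromSpecResidueField y ≫ g)

noncomputable abbrev mT (x : X) (y : Y) : T f g x y ⟶ pullback f g :=
  pullback.map (X.fromSpecResidueField x ≫ f) (Y.fromSpecResidueField y ≫ g) f g (X.fromSpecResidueField x)
    (Y.fromSpecResidueField y) (𝟙 S) (Category.comp_id _) (Category.comp_id _)

instance isPreimmersion_mT (x : X) (y : Y) : IsPreimmersion (mT f g x y) :=
  MorphismProperty.pullbackMap (P := @IsPreimmersion) (i₁ := X.fromSpecResidueField x)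
    (i₂ := Y.fromSpecResidueField y) inferInstance inferInstance rfl rfl

/-- The inclusion of the fibre of the fibre. -/
noncomputable abbrev τ (x : X) (y' : g.fiber (f x)) : (π₁ f g x).fiber y' ⟶ pullback f g :=
  (π₁ f g x).fiberι y' ≫ m₁ f g x

theorem exists_iso_T (x : X) (y' : g.fiber (f x)) :
    ∃ e : (π₁ f g x).fiber y' ≅ T f g x (g.fiberι (f x) y'),
      e.hom ≫ mT f g x (g.fiberι (f x) y') = τ f g x y' := by
  let y := g.fiberι (f x) y'
  let π := π₁ f g x
  let ι := g.fiberι (f x)
  haveI : IsIso (ι.residueFieldMap y') :=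
    (ConcreteCategory.isIso_iff_bijective _).mpr ⟨RingHom.injective _, fun z => by
      obtain ⟨a, rfl⟩ := IsLocalRing.residue_surjective z
      obtain ⟨b, rfl⟩ := ι.stalkMap_surjective y' a
      exact ⟨IsLocalRing.residue _ b, rfl⟩⟩
  let u : Spec (Y.residueField y) ⟶ Spec ((g.fiber (f x)).residueField y') :=
    Spec.map (inv (ι.residueFieldMap y'))
  have hu : u ≫ (g.fiber (f x)).fromSpecResidueField y' ≫ ι = Y.fromSpecResidueField y := by
    rw [← Scheme.Hom.SpecMap_residueFieldMap_fromSpecResidueField, ← Category.assoc, ← Spec.map_comp,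
      IsIso.hom_inv_id, Spec.map_id, Category.id_comp]
  let a : π.fiber y' ⟶ T f g x y := pullback.lift (π.fiberι y' ≫ pullback.snd _ _)
    (π.fiberToSpecResidueField y' ≫ Spec.map (ι.residueFieldMap y')) (by
      simp only [Category.assoc]
      rw [reassoc_of% Scheme.Hom.SpecMap_residueFieldMap_fromSpecResidueField ι y',
        ← reassoc_of% (π.fiber_fac y'), ← reassoc_of% (m₁_fst f g x), ← reassoc_of% (m₁_snd f g x),
        pullback.condition])
  let b₀ : T f g x y ⟶ g.fiber (f x) := pullback.lift (pullback.snd _ _ ≫ Y.fromSpecResidueField y)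
    (pullback.fst _ _ ≫ Spec.map (f.residueFieldMap x)) (by
      simp only [Category.assoc, Scheme.Hom.SpecMap_residueFieldMap_fromSpecResidueField]
      exact pullback.condition.symm)
  let b₁ : T f g x y ⟶ X₁ f g x := pullback.lift b₀ (pullback.fst _ _) (pullback.lift_snd _ _ _)
  let b : T f g x y ⟶ π.fiber y' := pullback.lift b₁ (pullback.snd _ _ ≫ u) (by
    haveI : Mono ι := inferInstance
    rw [← cancel_mono ι]
    simp only [Category.assoc, hu, π, b₁, π₁, pullback.lift_fst]
    exact pullback.lift_fst _ _ _)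
  have ha : a ≫ mT f g x y = τ f g x y' := by
    refine pullback.hom_ext ?_ ?_
    · simp only [a, mT, τ, pullback.map, Category.assoc, pullback.lift_fst, pullback.lift_fst_assoc, m₁_fst]
      rfl
    · simp only [a, mT, τ, pullback.map, Category.assoc, pullback.lift_snd, pullback.lift_snd_assoc, m₁_snd]
      rw [Scheme.Hom.SpecMap_residueFieldMap_fromSpecResidueField, reassoc_of% (π.fiber_fac y')]
  have hb : b ≫ τ f g x y' = mT f g x y := by
    have hb' : b ≫ π.fiberι y' = b₁ := pullback.lift_fst _ _ _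
    rw [show b ≫ τ f g x y' = b₁ ≫ m₁ f g x by rw [← hb', Category.assoc]]
    refine pullback.hom_ext ?_ ?_
    · simp only [b₁, mT, pullback.map, Category.assoc, m₁_fst, pullback.lift_fst, pullback.lift_snd_assoc]
    · simp only [b₁, b₀, mT, pullback.map, Category.assoc, m₁_snd, π₁, pullback.lift_snd, pullback.lift_fst,
        pullback.lift_fst_assoc]
      exact pullback.lift_fst _ _ _
  haveI : Mono (τ f g x y') := mono_comp _ _
  refine ⟨⟨a, b, ?_, ?_⟩, ha⟩
  · rw [← cancel_mono (τ f g x y'), Category.assoc, hb, ha, Category.id_comp]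
  · rw [← cancel_mono (mT f g x y), Category.assoc, ha, hb, Category.id_comp]

variable (F : X.Modules) (G : Y.Modules)
variable [IsLocallyNoetherian X] [IsLocallyNoetherian Y] [IsLocallyNoetherian (pullback f g)]

/-- Associated points of the tensor product. -/
theorem mem_ass_tensorS_iff (hF : Coh.IsQCoh F) (hG : Coh.IsQCoh G) (hfl : FlatMod.IsFlatOver g G)
    (z : ↥(pullback f g)) :
    z ∈ AssSch.Ass (tensorS f g F G) ↔
      ∃ x ∈ AssSch.Ass F, ∃ y' ∈ AssSch.Ass (fibreMod g G (f x)),
        ∃ v : T f g x (g.fiberι (f x) y'), v ∈ AssSch.Ass (Coh.structureModule _) ∧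
          mT f g x (g.fiberι (f x) y') v = z := by
  constructor
  · intro hz
    let x := pullback.fst f g z
    obtain ⟨w, hw⟩ := exists_m₁_eq f g (z := z) (x := x) rfl
    let y' := π₁ f g x w
    let t : (π₁ f g x).fiber y' := (π₁ f g x).asFiber w
    have ht : (π₁ f g x).fiberι y' t = w := (π₁ f g x).fiberι_asFiber w
    rw [← hw, ← ht, mem_ass_iff f g F G hF hG hfl x y' t] at hz
    obtain ⟨hx, hy, ht0⟩ := hz
    obtain ⟨e, he⟩ := exists_iso_T f g x y'
    have hzv : mT f g x (g.fiberι (f x) y') (e.hom t) = z := by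
      rw [← Scheme.Hom.comp_apply, he, Scheme.Hom.comp_apply, ht, hw]
    refine ⟨x, hx, y', hy, e.hom t, ?_, hzv⟩
    haveI := isNoetherianRing_stalk (mT f g x (g.fiberι (f x) y')) (e.hom t)
    rw [mem_ass_structureModule]
    exact ht0.of_equiv (asIso (e.hom.stalkMap t)).symm.commRingCatIsoToRingEquiv
  · rintro ⟨x, hx, y', hy, v, hv, rfl⟩
    obtain ⟨e, he⟩ := exists_iso_T f g x y'
    obtain ⟨t, rfl⟩ := e.hom.homeomorph.surjective v
    haveI := isNoetherianRing_stalk (mT f g x (g.fiberι (f x) y')) (e.hom t)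
    rw [show mT f g x (g.fiberι (f x) y') (e.hom.homeomorph t) = m₁ f g x ((π₁ f g x).fiberι y' t) by
      show mT f g x (g.fiberι (f x) y') (e.hom t) = _
      rw [← Scheme.Hom.comp_apply, he, Scheme.Hom.comp_apply], mem_ass_iff f g F G hF hG hfl x y' t]
    refine ⟨hx, hy, ?_⟩
    exact ((mem_ass_structureModule (e.hom t)).1 hv).of_equiv
      (asIso (e.hom.stalkMap t)).commRingCatIsoToRingEquiv

end Groth.Agent.AssTensorX

namespace Groth.Agent.AssTensorX

variable {X Y S : Scheme.{u}} (f : X ⟶ S) (g : Y ⟶ S) (F : X.Modules) (G : Y.Modules)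
variable [IsLocallyNoetherian X] [IsLocallyNoetherian Y] [IsLocallyNoetherian (pullback f g)]

/-- The points of `Spec κ(x) ×_S Spec κ(y)` carrying associated points are maximal in the fibre. -/
theorem eq_of_specializes (x : X) (y' : g.fiber (f x)) (t : (π₁ f g x).fiber y')
    (h : AssLib.DepthZero (((π₁ f g x).fiber y').presheaf.stalk t)) (t' : (π₁ f g x).fiber y') (ht : t' ⤳ t) :
    t' = t := by
  letI : Algebra (S.residueField (f x)) (X.residueField x) := (f.residueFieldMap x).hom.toAlgebra
  exact AssLib.eq_of_depthZero_fibre_bc (k := S.residueField (f x)) (K := X.residueField x)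
    (g.fiberToSpecResidueField (f x)) y' t h t' ht

theorem noEmbedded_tensorS (hF : Coh.IsQCoh F) (hG : Coh.IsQCoh G) (hfl : FlatMod.IsFlatOver g G)
    (hFne : AssSch.NoEmbedded F) (hGne : ∀ x ∈ AssSch.Ass F, AssSch.NoEmbedded (fibreMod g G (f x))) :
    AssSch.NoEmbedded (tensorS f g F G) := by
  intro z hz z' hz' hzz
  let x := pullback.fst f g z
  obtain ⟨w, hw⟩ := exists_m₁_eq f g (z := z) (x := x) rfl
  let π := π₁ f g x
  have key : ∀ v : X₁ f g x, m₁ f g x v ∈ AssSch.Ass (tensorS f g F G) →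
      x ∈ AssSch.Ass F ∧ π v ∈ AssSch.Ass (fibreMod g G (f x)) ∧
        AssLib.DepthZero ((π.fiber (π v)).presheaf.stalk (π.asFiber v)) := fun v hv =>
    (mem_ass_iff f g F G hF hG hfl x (π v) (π.asFiber v)).1 (by rw [π.fiberι_asFiber v]; exact hv)
  obtain ⟨hx, hy, ht⟩ := key w (hw.symm ▸ hz)
  have hx' : pullback.fst f g z' ∈ AssSch.Ass F := by
    obtain ⟨x₂, hx₂, y₂, -, v, -, rfl⟩ := (mem_ass_tensorS_iff f g F G hF hG hfl z').1 hz'
    rw [← Scheme.Hom.comp_apply, pullback.lift_fst, Scheme.Hom.comp_apply, Scheme.fromSpecResidueField_apply]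
    exact hx₂
  have hpz : pullback.fst f g z' = x := (hFne x hx _ hx' (hzz.map (pullback.fst f g).continuous)).symm
  obtain ⟨w', hw'⟩ := exists_m₁_eq f g (z := z') (x := x) hpz
  obtain ⟨-, hy', -⟩ := key w' (hw'.symm ▸ hz')
  have hww : w' ⤳ w := (m₁ f g x).isEmbedding.isInducing.specializes_iff.1 (by rw [hw, hw']; exact hzz)
  have hyy : π w = π w' := hGne x hx _ hy _ hy' (hww.map π.continuous)
  obtain ⟨t', ht'⟩ : w' ∈ Set.range (π.fiberι (π w)) := by
    rw [Scheme.Hom.range_fiberι]; exact hyy.symm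
  have htt : t' = π.asFiber w := eq_of_specializes f g x (π w) (π.asFiber w) ht t'
    ((π.fiberι (π w)).isEmbedding.isInducing.specializes_iff.1 (by rw [ht', π.fiberι_asFiber]; exact hww))
  rw [← hw, ← hw', ← ht', htt, π.fiberι_asFiber]

theorem noEmbedded_fibreMod [IsLocallyNoetherian S] (hG : Coh.IsQCoh G) (hfl : FlatMod.IsFlatOver g G)
    (hGne : AssSch.NoEmbedded G) {s : S} (hs : s ∈ AssSch.Ass (Coh.structureModule S)) :
    AssSch.NoEmbedded (fibreMod g G s) := fun y hy y' hy' h =>
  (g.fiberι s).isEmbedding.injective (hGne _ ((mem_ass_fibreMod_iff g G hG hfl hs y).1 hy) _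
    ((mem_ass_fibreMod_iff g G hG hfl hs y').1 hy') (h.map (g.fiberι s).continuous))

end Groth.Agent.AssTensorX
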