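import Groth.Agent.AssTensorX.Soc
import Groth.Agent.AssLib.FlatFibre
import Groth.Agent.AssLib.FlatField
import Groth.Agent.MorLib.FlatBC
import Groth.Agent.S4678
import Groth.Agent.S2286

/-!
# Associated points of a tensor product over the base
-/

set_option autoImplicit false
set_option backward.isDefEq.respectTransparency false
set_option backward.isDefEq.respectTransparency.types false
set_option linter.style.haveILetI false

universe u

open CategoryTheory CategoryTheory.Limits AlgebraicGeometry IsLocalRing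
open scoped TensorProduct

namespace Groth.Agent.AssTensorX

theorem mem_ass_iff_soc {X : Scheme.{u}} (M : X.Modules) (x : X) [IsNoetherianRing (X.presheaf.stalk x)] :
    x ∈ AssSch.Ass M ↔ Soc (X.presheaf.stalk x) (M.presheaf.stalk x) :=
  (AssLib.mem_ass_def M x).trans soc_iff

theorem mem_ass_structureModule {X : Scheme.{u}} (x : X) [IsNoetherianRing (X.presheaf.stalk x)] :
    x ∈ AssSch.Ass (Coh.structureModule X) ↔ AssLib.DepthZero (X.presheaf.stalk x) := by
  let e : X.presheaf.stalk x ≃ₗ[X.presheaf.stalk x] (Coh.structureModule X).presheaf.stalk x :=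
    KFlatLib.stalkUnitEquiv x
  exact (mem_ass_iff_soc _ _).trans ((soc_equiv e).symm.trans soc_self_iff)

theorem isNoetherianRing_stalk {X Y : Scheme.{u}} (i : X ⟶ Y) [IsPreimmersion i] (x : X)
    [IsNoetherianRing (Y.presheaf.stalk (i x))] : IsNoetherianRing (X.presheaf.stalk x) :=
  isNoetherianRing_of_surjective _ _ (i.stalkMap x).hom (i.stalkMap_surjective x)

/-- The local rings of a pullback along the inclusion of a point. -/
theorem ker_stalkMap_of_isPullback {P X W : Scheme.{u}} {m : W ⟶ P} {p : P ⟶ X} {x : X}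
    {snd : W ⟶ Spec (X.residueField x)} (h : IsPullback m snd p (X.fromSpecResidueField x)) (w : W) :
    RingHom.ker (m.stalkMap w).hom =
      (maximalIdeal (X.presheaf.stalk (p (m w)))).map (p.stalkMap (m w)).hom := by
  suffices key : ∀ (m' : W ⟶ P), m' = h.isoPullback.hom ≫ p.fiberι x → RingHom.ker (m'.stalkMap w).hom =
      (maximalIdeal (X.presheaf.stalk (p (m' w)))).map (p.stalkMap (m' w)).hom from
    key m h.isoPullback_hom_fst.symm
  rintro _ rfl
  rw [Scheme.Hom.stalkMap_comp, CommRingCat.hom_comp,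
    RingHom.ker_comp_of_injective _ (ConcreteCategory.bijective_of_isIso (h.isoPullback.hom.stalkMap w)).1]
  exact FlatDvr.ker_stalkMap_fiberι p _

section Tensor

open MonoidalCategory

theorem exists_stalk_comm {X : Scheme.{u}} (M N : X.Modules) (x : X) :
    Nonempty ((CohB1.tensorMod M N).presheaf.stalk x ≃ₗ[X.presheaf.stalk x]
      (CohB1.tensorMod N M).presheaf.stalk x) := by
  rw [S2286.tensorMod_eq, S2286.tensorMod_eq]
  let e : M.presheaf.stalk x ⊗[X.presheaf.stalk x] N.presheaf.stalk x ≃ₗ[X.presheaf.stalk x]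
      ((DCoh.tensorBi.obj M).obj N).presheaf.stalk x := (KFlatLib.stalkTensorIso x M N).toLinearEquiv
  let e' : N.presheaf.stalk x ⊗[X.presheaf.stalk x] M.presheaf.stalk x ≃ₗ[X.presheaf.stalk x]
      ((DCoh.tensorBi.obj N).obj M).presheaf.stalk x := (KFlatLib.stalkTensorIso x N M).toLinearEquiv
  exact ⟨e.symm ≪≫ₗ TensorProduct.comm _ _ _ ≪≫ₗ e'⟩

end Tensor

variable {X Y S : Scheme.{u}} (f : X ⟶ S) (g : Y ⟶ S)

/-- The fibre of the first projection over `x`, as a base change of the fibre of `g`. -/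
noncomputable abbrev X₁ (x : X) : Scheme.{u} :=
  pullback (g.fiberToSpecResidueField (f x)) (Spec.map (f.residueFieldMap x))

noncomputable abbrev π₁ (x : X) : X₁ f g x ⟶ g.fiber (f x) := pullback.fst _ _

noncomputable def m₁ (x : X) : X₁ f g x ⟶ pullback f g :=
  pullback.lift (pullback.snd _ _ ≫ X.fromSpecResidueField x) (π₁ f g x ≫ g.fiberι (f x)) (by
    rw [Category.assoc, ← Scheme.Hom.SpecMap_residueFieldMap_fromSpecResidueField, ← Category.assoc,
      ← pullback.condition, Category.assoc, Category.assoc, g.fiber_fac])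

theorem m₁_fst (x : X) : m₁ f g x ≫ pullback.fst f g = pullback.snd _ _ ≫ X.fromSpecResidueField x :=
  pullback.lift_fst _ _ _

theorem m₁_snd (x : X) : m₁ f g x ≫ pullback.snd f g = π₁ f g x ≫ g.fiberι (f x) :=
  pullback.lift_snd _ _ _

theorem isPullback_m₁ (x : X) :
    IsPullback (m₁ f g x) (pullback.snd _ _) (pullback.fst f g) (X.fromSpecResidueField x) := by
  refine IsPullback.of_right ?_ (m₁_fst f g x) (IsPullback.of_hasPullback f g).flip
  rw [m₁_snd, ← Scheme.Hom.SpecMap_residueFieldMap_fromSpecResidueField]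
  exact (IsPullback.of_hasPullback (g.fiberToSpecResidueField (f x)) (Spec.map (f.residueFieldMap x))).paste_horiz
    (IsPullback.of_hasPullback g (S.fromSpecResidueField (f x)))

theorem fst_m₁ (x : X) (w : X₁ f g x) : pullback.fst f g (m₁ f g x w) = x := by
  rw [← Scheme.Hom.comp_apply, m₁_fst, Scheme.Hom.comp_apply]
  exact Scheme.fromSpecResidueField_apply _ _

instance isPreimmersion_m₁ (x : X) : IsPreimmersion (m₁ f g x) :=
  MorphismProperty.of_isPullback (P := @IsPreimmersion) (isPullback_m₁ f g x).flip inferInstance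

theorem exists_m₁_eq {z : ↥(pullback f g)} {x : X} (hz : pullback.fst f g z = x) :
    ∃ w, m₁ f g x w = z := by
  obtain ⟨v, rfl⟩ : z ∈ Set.range ((pullback.fst f g).fiberι x) := by
    rw [Scheme.Hom.range_fiberι]; exact hz
  obtain ⟨w, rfl⟩ := (isPullback_m₁ f g x).isoPullback.hom.homeomorph.surjective v
  refine ⟨w, ?_⟩
  show m₁ f g x w = ((isPullback_m₁ f g x).isoPullback.hom ≫ (pullback.fst f g).fiberι x) w
  rw [show (isPullback_m₁ f g x).isoPullback.hom ≫ (pullback.fst f g).fiberι x = m₁ f g x from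
    (isPullback_m₁ f g x).isoPullback_hom_fst]

variable (F : X.Modules) (G : Y.Modules)

/-- The tensor product of the two inverse images. -/
noncomputable abbrev tensorS : (pullback f g).Modules :=
  CohB1.tensorMod ((Scheme.Modules.pullback (pullback.fst f g)).obj F)
    ((Scheme.Modules.pullback (pullback.snd f g)).obj G)

/-- The restriction of `G` to the fibre of `g` over `s`. -/
noncomputable abbrev fibreMod (s : S) : (g.fiber s).Modules :=
  (Scheme.Modules.pullback (g.fiberι s)).obj G

variable [IsLocallyNoetherian X] [IsLocallyNoetherian Y] [IsLocallyNoetherian (pullback f g)]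

theorem soc_tensorS_iff (hF : Coh.IsQCoh F) (hG : Coh.IsQCoh G) (hfl : FlatMod.IsFlatOver g G)
    (x : X) (w : X₁ f g x) :
    m₁ f g x w ∈ AssSch.Ass (tensorS f g F G) ↔ x ∈ AssSch.Ass F ∧
      Soc ((X₁ f g x).presheaf.stalk w)
        (((Scheme.Modules.pullback (π₁ f g x)).obj (fibreMod g G (f x))).presheaf.stalk w) := by
  let p := pullback.fst f g
  let q := pullback.snd f g
  let k := m₁ f g x
  let z := k w
  let Q := (Scheme.Modules.pullback q).obj G
  haveI : IsNoetherianRing ((X₁ f g x).presheaf.stalk w) := isNoetherianRing_stalk k w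
  have hQ : FlatMod.IsFlatOverAt p Q z :=
    MorLib.FlatBC.isFlatOverAt_baseChange g p q f (IsPullback.of_hasPullback f g).flip G z (hfl _)
  letI : Algebra (X.presheaf.stalk (p z)) ((pullback f g).presheaf.stalk z) := (p.stalkMap z).hom.toAlgebra
  haveI : IsLocalHom (algebraMap (X.presheaf.stalk (p z)) ((pullback f g).presheaf.stalk z)) :=
    inferInstanceAs (IsLocalHom (p.stalkMap z).hom)
  letI : Module (X.presheaf.stalk (p z)) (Q.presheaf.stalk z) := Module.compHom _ (p.stalkMap z).hom
  haveI : IsScalarTower (X.presheaf.stalk (p z)) ((pullback f g).presheaf.stalk z) (Q.presheaf.stalk z) :=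
    IsScalarTower.of_algebraMap_smul fun _ _ => rfl
  haveI : Module.Flat (X.presheaf.stalk (p z)) (Q.presheaf.stalk z) := hQ
  obtain ⟨e⟩ := S4678.exists_tensor_stalkEquiv p Q F hF z
  obtain ⟨c⟩ := exists_stalk_comm ((Scheme.Modules.pullback p).obj F) Q z
  rw [mem_ass_iff_soc, soc_equiv (c.trans e), soc_tensor_iff, ← mem_ass_iff_soc F (p z)]
  refine and_congr (by rw [show p z = x from fst_m₁ f g x w]) ?_
  letI : Algebra ((pullback f g).presheaf.stalk z) ((X₁ f g x).presheaf.stalk w) := (k.stalkMap w).hom.toAlgebra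
  refine (soc_quot_iff (S₁ := (X₁ f g x).presheaf.stalk w) (k.stalkMap_surjective w) _
    (ker_stalkMap_of_isPullback (isPullback_m₁ f g x) w) (Q.presheaf.stalk z)).symm.trans ?_
  obtain ⟨e₁⟩ := QCoh.nonempty_pullStalkEquiv k (QCoh.isQCoh_pullback q hG) w
  refine (soc_equiv e₁).symm.trans ?_
  exact soc_equiv ((DerSch.stalkFunctor (X₁ f g x) w).mapIso
    ((Scheme.Modules.pullbackComp k q).app G ≪≫ (Scheme.Modules.pullbackCongr (m₁_snd f g x)).app G ≪≫
      ((Scheme.Modules.pullbackComp (π₁ f g x) (g.fiberι (f x))).app G).symm)).toLinearEquiv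

/-- The criterion at a point of the fibre of the fibre. -/
theorem mem_ass_iff (hF : Coh.IsQCoh F) (hG : Coh.IsQCoh G) (hfl : FlatMod.IsFlatOver g G) (x : X)
    (y' : g.fiber (f x)) (t : (π₁ f g x).fiber y') :
    m₁ f g x ((π₁ f g x).fiberι y' t) ∈ AssSch.Ass (tensorS f g F G) ↔
      x ∈ AssSch.Ass F ∧ y' ∈ AssSch.Ass (fibreMod g G (f x)) ∧
        AssLib.DepthZero (((π₁ f g x).fiber y').presheaf.stalk t) := by
  rw [soc_tensorS_iff f g F G hF hG hfl]
  refine and_congr Iff.rfl ?_
  let π := π₁ f g x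
  let w := π.fiberι y' t
  haveI : IsNoetherianRing ((X₁ f g x).presheaf.stalk w) := isNoetherianRing_stalk (m₁ f g x) w
  haveI : IsNoetherianRing ((g.fiber (f x)).presheaf.stalk (π w)) := isNoetherianRing_stalk (g.fiberι (f x)) _
  haveI : Flat (Spec.map (f.residueFieldMap x)) := AssLib.flat_over_field _
  haveI : Flat π := MorphismProperty.pullback_fst (P := @Flat) _ _ inferInstance
  letI : Algebra ((g.fiber (f x)).presheaf.stalk (π w)) ((X₁ f g x).presheaf.stalk w) :=
    (π.stalkMap w).hom.toAlgebra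
  haveI : IsLocalHom (algebraMap ((g.fiber (f x)).presheaf.stalk (π w)) ((X₁ f g x).presheaf.stalk w)) :=
    inferInstanceAs (IsLocalHom (π.stalkMap w).hom)
  haveI : Module.Flat ((g.fiber (f x)).presheaf.stalk (π w)) ((X₁ f g x).presheaf.stalk w) :=
    Flat.stalkMap π w
  obtain ⟨e⟩ := QCoh.nonempty_pullStalkEquiv π (G := fibreMod g G (f x)) (QCoh.isQCoh_pullback _ hG) w
  rw [soc_equiv e, soc_tensor_iff, ← mem_ass_iff_soc (fibreMod g G (f x)) (π w)]
  refine and_congr (by rw [show π w = y' from FlatDvr.fiberι_apply_eq π t]) ?_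
  exact soc_quot_self ((π.fiberι y').stalkMap t).hom ((π.fiberι y').stalkMap_surjective t) _
    (FlatDvr.ker_stalkMap_fiberι π t)

omit [IsLocallyNoetherian X] [IsLocallyNoetherian (pullback f g)] in
/-- Over an associated point of the base, associated points of `G` are those of the fibre. -/
theorem mem_ass_fibreMod_iff [IsLocallyNoetherian S] (hG : Coh.IsQCoh G) (hfl : FlatMod.IsFlatOver g G)
    {s : S} (hs : s ∈ AssSch.Ass (Coh.structureModule S)) (y' : g.fiber s) :
    y' ∈ AssSch.Ass (fibreMod g G s) ↔ g.fiberι s y' ∈ AssSch.Ass G := by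
  let y := g.fiberι s y'
  haveI : IsNoetherianRing ((g.fiber s).presheaf.stalk y') := isNoetherianRing_stalk (g.fiberι s) _
  letI : Algebra (S.presheaf.stalk (g y)) (Y.presheaf.stalk y) := (g.stalkMap y).hom.toAlgebra
  haveI : IsLocalHom (algebraMap (S.presheaf.stalk (g y)) (Y.presheaf.stalk y)) :=
    inferInstanceAs (IsLocalHom (g.stalkMap y).hom)
  letI : Module (S.presheaf.stalk (g y)) (G.presheaf.stalk y) := FlatMod.moduleStalkOver g G y
  haveI : IsScalarTower (S.presheaf.stalk (g y)) (Y.presheaf.stalk y) (G.presheaf.stalk y) :=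
    IsScalarTower.of_algebraMap_smul fun _ _ => rfl
  haveI : Module.Flat (S.presheaf.stalk (g y)) (G.presheaf.stalk y) := hfl y
  letI : Algebra (Y.presheaf.stalk y) ((g.fiber s).presheaf.stalk y') :=
    ((g.fiberι s).stalkMap y').hom.toAlgebra
  obtain ⟨e⟩ := QCoh.nonempty_pullStalkEquiv (g.fiberι s) hG y'
  rw [mem_ass_iff_soc, mem_ass_iff_soc, soc_equiv e,
    soc_quot_iff (S₁ := (g.fiber s).presheaf.stalk y') ((g.fiberι s).stalkMap_surjective y') _
      (FlatDvr.ker_stalkMap_fiberι g y') (G.presheaf.stalk y)]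
  have h := soc_tensor_iff (R := S.presheaf.stalk (g y)) (S := Y.presheaf.stalk y) (G.presheaf.stalk y)
    (S.presheaf.stalk (g y))
  rw [soc_equiv (TensorProduct.AlgebraTensorModule.rid (S.presheaf.stalk (g y)) (Y.presheaf.stalk y)
    (G.presheaf.stalk y)), soc_self_iff, ← mem_ass_structureModule] at h
  rw [h]
  refine (and_iff_right ?_).symm
  rw [show g y = s from FlatDvr.fiberι_apply_eq g y']
  exact hs

end Groth.Agent.AssTensorX
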