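import Groth.Agent.CAlgOdd.AssTensor
import Groth.Agent.AssLib.NoEmbTensor

/-!
# Socles over local rings and flat tensor products
-/

set_option autoImplicit false

universe u

open IsLocalRing TensorProduct

namespace Groth.Agent.AssTensorX

/-- Some nonzero element is killed by the maximal ideal. -/
def Soc (R : Type u) [CommRing R] [IsLocalRing R] (M : Type u) [AddCommGroup M] [Module R M] : Prop :=
  ∃ m : M, m ≠ 0 ∧ ∀ r ∈ maximalIdeal R, r • m = 0

theorem soc_iff {R : Type u} [CommRing R] [IsLocalRing R] [IsNoetherianRing R] {M : Type u} [AddCommGroup M]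
    [Module R M] : maximalIdeal R ∈ associatedPrimes R M ↔ Soc R M := by
  constructor
  · intro h
    obtain ⟨hp, m, hm⟩ := isAssociatedPrime_iff.1 h
    refine ⟨m, fun h0 => hp.ne_top ?_, fun r hr => ?_⟩
    · rw [hm, h0]
      exact eq_top_iff.2 fun r _ => Submodule.mem_colon_singleton.2 (by simp)
    · rw [hm, Submodule.mem_colon_singleton, Submodule.mem_bot] at hr
      exact hr
  · rintro ⟨m, hm0, hm⟩
    refine isAssociatedPrime_iff.2 ⟨inferInstance, m, le_antisymm
      (fun r hr => Submodule.mem_colon_singleton.2 (by rw [Submodule.mem_bot]; exact hm r hr)) ?_⟩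
    refine le_maximalIdeal fun htop => hm0 ?_
    have : (1 : R) ∈ Submodule.colon (⊥ : Submodule R M) {m} := htop ▸ Submodule.mem_top
    rwa [Submodule.mem_colon_singleton, Submodule.mem_bot, one_smul] at this

/-- Transport of socles along a semilinear equivalence over a surjection. -/
theorem soc_congr {R R' : Type u} [CommRing R] [IsLocalRing R] [CommRing R'] [IsLocalRing R'] {M M' : Type u}
    [AddCommGroup M] [Module R M] [AddCommGroup M'] [Module R' M'] (π : R →+* R') (hπ : Function.Surjective π)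
    (e : M ≃+ M') (he : ∀ r m, e (r • m) = π r • e m) : Soc R M ↔ Soc R' M' := by
  haveI : IsLocalHom π := IsLocalHom.of_surjective π hπ
  constructor
  · rintro ⟨m, hm0, hm⟩
    refine ⟨e m, fun h => hm0 (e.injective (h.trans (map_zero e).symm)), fun r' hr' => ?_⟩
    obtain ⟨r, rfl⟩ := hπ r'
    rw [← he, hm r fun hu => hr' (hu.map π), map_zero]
  · rintro ⟨m', hm0, hm⟩
    obtain ⟨m, rfl⟩ := e.surjective m'
    refine ⟨m, fun h => hm0 (by rw [h, map_zero]), fun r hr => e.injective ?_⟩
    rw [he, hm _ fun hu => hr (isUnit_of_map_unit π r hu), map_zero]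

theorem soc_equiv {R : Type u} [CommRing R] [IsLocalRing R] {M M' : Type u} [AddCommGroup M] [Module R M]
    [AddCommGroup M'] [Module R M'] (e : M ≃ₗ[R] M') : Soc R M ↔ Soc R M' :=
  soc_congr (RingHom.id R) Function.surjective_id e.toAddEquiv fun r m => map_smul e r m

theorem soc_self_iff {T : Type u} [CommRing T] [IsLocalRing T] : Soc T T ↔ AssLib.DepthZero T := Iff.rfl

theorem soc_quot_self {S T : Type u} [CommRing S] [IsLocalRing S] [CommRing T] [IsLocalRing T] (φ : S →+* T)
    (hφ : Function.Surjective φ) (J : Ideal S) (hJ : RingHom.ker φ = J) :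
    Soc S (S ⧸ J • (⊤ : Submodule S S)) ↔ AssLib.DepthZero T := by
  subst hJ
  rw [← soc_self_iff]
  let e : (S ⧸ RingHom.ker φ • (⊤ : Submodule S S)) ≃+ T :=
    (Submodule.quotEquivOfEq _ _ (by rw [smul_eq_mul, Ideal.mul_top])).toAddEquiv.trans
      (RingHom.quotientKerEquivOfSurjective hφ).toAddEquiv
  refine soc_congr φ hφ e fun r m => ?_
  obtain ⟨m, rfl⟩ := Submodule.Quotient.mk_surjective _ m
  rw [← Submodule.Quotient.mk_smul]
  exact map_mul φ r m

/-- Reduction modulo the kernel of a surjection. -/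
theorem soc_quot_iff {S S₁ : Type u} [CommRing S] [IsLocalRing S] [CommRing S₁] [IsLocalRing S₁] [Algebra S S₁]
    (hsurj : Function.Surjective (algebraMap S S₁)) (J : Ideal S) (hJ : RingHom.ker (algebraMap S S₁) = J)
    (N : Type u) [AddCommGroup N] [Module S N] :
    Soc S₁ (S₁ ⊗[S] N) ↔ Soc S (N ⧸ J • (⊤ : Submodule S N)) := by
  subst hJ
  let q : (S ⧸ RingHom.ker (algebraMap S S₁)) ≃ₐ[S] S₁ :=
    Ideal.quotientKerAlgEquivOfSurjective (f := Algebra.ofId S S₁) hsurj
  let e : (N ⧸ RingHom.ker (algebraMap S S₁) • (⊤ : Submodule S N)) ≃ₗ[S] S₁ ⊗[S] N :=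
    (TensorProduct.quotTensorEquivQuotSMul N _).symm ≪≫ₗ
      TensorProduct.congr q.toLinearEquiv (LinearEquiv.refl S N)
  refine (soc_congr (algebraMap S S₁) hsurj e.toAddEquiv fun r m => ?_).symm
  exact (map_smul e r m).trans (algebraMap_smul S₁ r (e m)).symm

variable {R S : Type u} [CommRing R] [IsLocalRing R] [IsNoetherianRing R] [CommRing S] [IsLocalRing S]
  [IsNoetherianRing S] [Algebra R S] [IsLocalHom (algebraMap R S)]

/-- The maximal ideal is associated to a flat tensor product iff it is so in the base and in the fibre. -/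
theorem soc_tensor_iff (N : Type u) [AddCommGroup N] [Module S N] [Module R N] [IsScalarTower R S N]
    [Module.Flat R N] (M : Type u) [AddCommGroup M] [Module R M] :
    Soc S (N ⊗[R] M) ↔
      Soc R M ∧ Soc S (N ⧸ (maximalIdeal R).map (algebraMap R S) • (⊤ : Submodule S N)) := by
  rw [← soc_iff, ← soc_iff, ← soc_iff, CAlgOdd.AssTensor.associatedPrimes_eq]
  simp only [Set.mem_iUnion, exists_prop]
  refine ⟨fun ⟨p, hp, hq⟩ => ?_, fun h => ⟨_, h.1, h.2⟩⟩
  suffices hpm : p = maximalIdeal R by subst hpm; exact ⟨hp, hq⟩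
  haveI := hp.isPrime
  obtain ⟨x, hx0, hx⟩ := soc_iff.1 hq
  refine le_antisymm (le_maximalIdeal hp.isPrime.ne_top) fun r hr => by_contra fun hrp => hx0 ?_
  refine (AssFiber.isSMulRegular_quot p N (s := algebraMap R S r) ⟨r, hrp, rfl⟩).right_eq_zero_of_smul (hx _ ?_)
  exact fun hu => hr (isUnit_of_map_unit _ r hu)

end Groth.Agent.AssTensorX
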